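import Cfsg.Agent.Coset.G24.Field

/-! Data for a presentation of `Sp(4, 4)` and its realisations. -/

set_option autoImplicit false
set_option maxRecDepth 100000

namespace CfsgLib.Coset.Sp44

open CfsgLib.Coset.G24

/-- The relators. -/
def rels : List (List Nat) := [[0, 0], [1, 1], [2, 2], [3, 3], [4, 4], [0, 3, 0, 3], [2, 3, 2, 3], [1, 2, 1, 2, 1, 2], [1, 3, 1, 3, 1, 3], [0, 1, 0, 1, 2, 1, 0, 1, 0, 1, 2, 1, 0, 1, 2], [0, 1, 0, 1, 3, 1, 0, 2, 1, 0, 1, 3, 1, 0, 2, 1, 0, 1, 3, 1, 2], [1, 2, 4, 2, 1, 4], [2, 3, 4, 3, 4, 2, 4, 3, 4], [0, 1, 0, 1, 3, 0, 1, 3, 1, 0, 1, 3, 4, 1, 0, 4, 1, 4, 1, 3, 1], [0, 1, 0, 1, 0, 1, 0, 1, 0, 1, 0, 1, 0, 1, 0, 1, 0, 1, 0, 1], [0, 2, 0, 2]]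

/-- The generators as words in `Cfsg.Spor.He`. -/
def W : List (List Nat) := [[2], [3], [4], [5], [1, 2, 3, 4, 1, 2, 3, 4, 1, 2, 3, 4, 1, 2, 3, 4, 1, 2, 3, 4, 1, 2, 3, 4, 1, 2, 3, 4, 0, 1, 2, 3, 4, 1, 2, 3, 4, 1, 2, 3, 4, 1, 2, 3, 4, 1, 2, 3, 4, 1, 2, 3, 4, 1, 2, 3, 4, 1, 2, 3, 4, 1, 2, 3, 4, 1, 2, 3, 4, 1, 2, 3, 4, 1, 2, 3, 4, 1, 2, 3, 4, 1, 2, 3, 4]]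

/-- The generators as matrices. -/
def mats : List (List (List F4)) := [[[.o, .z, .z, .z], [.z, .o, .z, .z], [.o, .z, .o, .z], [.z, .z, .z, .o]], [[.z, .z, .w, .z], [.z, .o, .z, .z], [.v, .z, .z, .z], [.z, .o, .z, .o]], [[.o, .z, .z, .z], [.z, .o, .z, .z], [.v, .z, .o, .z], [.z, .o, .z, .o]], [[.o, .z, .z, .z], [.z, .o, .z, .z], [.v, .w, .o, .z], [.w, .z, .z, .o]], [[.o, .z, .z, .z], [.z, .z, .z, .o], [.z, .z, .o, .z], [.z, .o, .z, .z]]]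

/-- Words for two transvections along the first basis vector. -/
def tw : List (List Nat) := [[4, 1, 4, 2, 4, 0, 1], [4, 1, 4, 2, 4, 1]]

/-- Words moving the first basis vector to every non-zero vector. -/
def vw : List (List Nat) := [[], [0], [1], [2], [3], [1, 0], [2, 0], [3, 0], [3, 2], [4, 3], [0, 1, 0], [2, 1, 0], [3, 1, 0], [1, 2, 0], [3, 2, 0], [1, 3, 0], [4, 3, 0], [1, 3, 2], [4, 3, 2], [1, 4, 3], [2, 4, 3], [2, 0, 1, 0], [3, 0, 1, 0], [1, 2, 1, 0], [3, 2, 1, 0], [1, 3, 1, 0], [4, 3, 1, 0], [0, 1, 2, 0], [3, 1, 2, 0], [1, 3, 2, 0], [4, 3, 2, 0], [0, 1, 3, 0], [2, 1, 3, 0], [4, 1, 3, 0], [1, 4, 3, 0], [2, 4, 3, 0], [3, 4, 3, 0], [4, 1, 3, 2], [1, 4, 3, 2], [1, 2, 0, 1, 0], [3, 2,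 0, 1, 0], [1, 3, 0, 1, 0], [4, 3, 0, 1, 0], [0, 1, 2, 1, 0], [3, 1, 2, 1, 0], [1, 3, 2, 1, 0], [4, 3, 2, 1, 0], [0, 1, 3, 1, 0], [2, 1, 3, 1, 0], [4, 1, 3, 1, 0], [1, 4, 3, 1, 0], [2, 4, 3, 1, 0], [3, 4, 3, 1, 0], [1, 0, 1, 2, 0], [3, 0, 1, 2, 0], [1, 3, 1, 2, 0], [4, 3, 1, 2, 0], [0, 1, 3, 2, 0], [2, 1, 3, 2, 0], [4, 1, 3, 2, 0], [1, 4, 3, 2, 0], [1, 0, 1, 3, 0], [2, 0, 1, 3, 0], [4, 0, 1, 3, 0], [4, 2, 1, 3, 0], [2, 4, 1, 3, 0], [3, 4, 1, 3, 0], [0, 1, 4, 3, 0], [3, 1, 4, 3, 0], [3, 4, 1, 3, 2], [3, 1, 4, 3, 2], [4, 3, 2, 0, 1, 0], [4, 1, 3, 0, 1, 0], [1, 4, 3, 0, 1, 0], [2, 4, 3, 0, 1, 0], [3, 4, 3, 0, 1, 0], [3, 0, 1, 2, 1, 0], [1, 3, 1, 2, 1, 0], [4, 3, 1, 2, 1, 0], [0, 1, 3, 2, 1,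 0], [2, 1, 3, 2, 1, 0], [4, 1, 3, 2, 1, 0], [1, 4, 3, 2, 1, 0], [2, 0, 1, 3, 1, 0], [4, 0, 1, 3, 1, 0], [4, 2, 1, 3, 1, 0], [2, 4, 1, 3, 1, 0], [3, 4, 1, 3, 1, 0], [0, 1, 4, 3, 1, 0], [3, 1, 4, 3, 1, 0], [4, 3, 0, 1, 2, 0], [0, 1, 3, 1, 2, 0], [2, 1, 3, 1, 2, 0], [4, 1, 3, 1, 2, 0], [1, 4, 3, 1, 2, 0], [2, 4, 3, 1, 2, 0], [3, 4, 3, 1, 2, 0], [2, 0, 1, 3, 2, 0], [4, 0, 1, 3, 2, 0], [4, 2, 1, 3, 2, 0], [2, 4, 1, 3, 2, 0], [3, 4, 1, 3, 2, 0], [0, 1, 4, 3, 2, 0], [3, 1, 4, 3, 2, 0], [4, 1, 0, 1, 3, 0], [4, 2, 0, 1, 3, 0], [1, 4, 0, 1, 3, 0], [2, 4, 0, 1, 3, 0], [3, 4, 0, 1, 3, 0], [3, 4, 2, 1, 3, 0], [3, 2, 4, 1, 3, 0], [4, 3, 4, 1, 3, 0], [3, 0, 1, 4, 3, 0], [4, 3, 4, 1, 3, 2], [3, 4, 1, 3,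 0, 1, 0], [3, 1, 4, 3, 0, 1, 0], [1, 3, 0, 1, 2, 1, 0], [4, 3, 0, 1, 2, 1, 0], [0, 1, 3, 1, 2, 1, 0], [2, 1, 3, 1, 2, 1, 0], [4, 1, 3, 1, 2, 1, 0], [1, 4, 3, 1, 2, 1, 0], [1, 0, 1, 3, 2, 1, 0], [2, 0, 1, 3, 2, 1, 0], [4, 0, 1, 3, 2, 1, 0], [4, 2, 1, 3, 2, 1, 0], [2, 4, 1, 3, 2, 1, 0], [3, 4, 1, 3, 2, 1, 0], [0, 1, 4, 3, 2, 1, 0], [3, 1, 4, 3, 2, 1, 0], [1, 2, 0, 1, 3, 1, 0], [4, 2, 0, 1, 3, 1, 0], [2, 4, 0, 1, 3, 1, 0], [3, 4, 0, 1, 3, 1, 0], [3, 4, 2, 1, 3, 1, 0], [3, 2, 4, 1, 3, 1, 0], [4, 3, 4, 1, 3, 1, 0], [3, 0, 1, 4, 3, 1, 0], [1, 4, 3, 0, 1, 2, 0], [2, 4, 3, 0, 1, 2, 0], [1, 0, 1, 3, 1, 2, 0], [2, 0, 1, 3, 1, 2, 0], [4, 0, 1, 3, 1, 2, 0], [4, 2, 1, 3, 1, 2, 0], [2, 4, 1, 3, 1, 2,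 0], [3, 4, 1, 3, 1, 2, 0], [0, 1, 4, 3, 1, 2, 0], [3, 1, 4, 3, 1, 2, 0], [1, 2, 0, 1, 3, 2, 0], [4, 2, 0, 1, 3, 2, 0], [2, 4, 0, 1, 3, 2, 0], [3, 4, 0, 1, 3, 2, 0], [3, 4, 2, 1, 3, 2, 0], [3, 2, 4, 1, 3, 2, 0], [4, 3, 4, 1, 3, 2, 0], [3, 0, 1, 4, 3, 2, 0], [3, 4, 1, 0, 1, 3, 0], [3, 4, 2, 0, 1, 3, 0], [3, 1, 4, 0, 1, 3, 0], [3, 2, 4, 0, 1, 3, 0], [1, 3, 4, 0, 1, 3, 0], [4, 3, 4, 0, 1, 3, 0], [1, 3, 4, 2, 1, 3, 0], [4, 3, 4, 2, 1, 3, 0], [1, 3, 2, 4, 1, 3, 0], [2, 4, 3, 4, 1, 3, 0], [1, 3, 0, 1, 4, 3, 0], [4, 3, 4, 1, 3, 0, 1, 0], [4, 1, 3, 0, 1, 2, 1, 0], [1, 4, 3, 0, 1, 2, 1, 0], [2, 0, 1, 3, 1, 2, 1, 0], [4, 0, 1, 3, 1, 2, 1, 0], [4, 2, 1, 3, 1, 2, 1, 0], [2, 4, 1, 3, 1, 2, 1, 0], [3,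 4, 1, 3, 1, 2, 1, 0], [0, 1, 4, 3, 1, 2, 1, 0], [3, 1, 4, 3, 1, 2, 1, 0], [4, 1, 0, 1, 3, 2, 1, 0], [4, 2, 0, 1, 3, 2, 1, 0], [1, 4, 0, 1, 3, 2, 1, 0], [2, 4, 0, 1, 3, 2, 1, 0], [3, 4, 0, 1, 3, 2, 1, 0], [3, 4, 2, 1, 3, 2, 1, 0], [3, 2, 4, 1, 3, 2, 1, 0], [4, 3, 4, 1, 3, 2, 1, 0], [3, 0, 1, 4, 3, 2, 1, 0], [4, 1, 2, 0, 1, 3, 1, 0], [1, 4, 2, 0, 1, 3, 1, 0], [3, 4, 2, 0, 1, 3, 1, 0], [3, 2, 4, 0, 1, 3, 1, 0], [1, 3, 4, 0, 1, 3, 1, 0], [4, 3, 4, 0, 1, 3, 1, 0], [1, 3, 4, 2, 1, 3, 1, 0], [1, 3, 2, 4, 1, 3, 1, 0], [1, 3, 0, 1, 4, 3, 1, 0], [4, 1, 0, 1, 3, 1, 2, 0], [4, 2, 0, 1, 3, 1, 2, 0], [1, 4, 0, 1, 3, 1, 2, 0], [2, 4, 0, 1, 3, 1, 2, 0], [3, 4, 0, 1, 3, 1, 2, 0], [3, 4, 2, 1, 3, 1, 2, 0],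 [3, 2, 4, 1, 3, 1, 2, 0], [4, 3, 4, 1, 3, 1, 2, 0], [3, 0, 1, 4, 3, 1, 2, 0], [1, 3, 4, 0, 1, 3, 2, 0], [4, 3, 4, 0, 1, 3, 2, 0], [1, 3, 4, 2, 1, 3, 2, 0], [4, 3, 4, 2, 1, 3, 2, 0], [1, 3, 2, 4, 1, 3, 2, 0], [2, 4, 3, 4, 1, 3, 2, 0], [1, 3, 0, 1, 4, 3, 2, 0], [1, 3, 4, 2, 0, 1, 3, 0], [4, 3, 4, 2, 0, 1, 3, 0], [1, 3, 2, 4, 0, 1, 3, 0], [1, 4, 3, 4, 0, 1, 3, 0], [2, 4, 3, 4, 0, 1, 3, 0], [1, 4, 3, 4, 2, 1, 3, 0], [4, 1, 3, 2, 4, 1, 3, 0], [4, 1, 3, 0, 1, 4, 3, 0], [3, 4, 1, 3, 0, 1, 2, 1, 0], [3, 1, 4, 3, 0, 1, 2, 1, 0], [1, 2, 0, 1, 3, 1, 2, 1, 0], [4, 2, 0, 1, 3, 1, 2, 1, 0], [2, 4, 0, 1, 3, 1, 2, 1, 0], [3, 4, 0, 1, 3, 1, 2, 1, 0], [3, 4, 2, 1, 3, 1, 2, 1, 0], [3, 2, 4, 1, 3, 1, 2, 1,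 0], [4, 3, 4, 1, 3, 1, 2, 1, 0], [3, 0, 1, 4, 3, 1, 2, 1, 0], [3, 4, 2, 0, 1, 3, 2, 1, 0], [3, 2, 4, 0, 1, 3, 2, 1, 0], [1, 3, 4, 2, 1, 3, 2, 1, 0], [4, 3, 4, 2, 1, 3, 2, 1, 0], [1, 3, 2, 4, 1, 3, 2, 1, 0], [2, 4, 3, 4, 1, 3, 2, 1, 0], [2, 1, 3, 4, 0, 1, 3, 1, 0], [3, 4, 1, 0, 1, 3, 1, 2, 0], [3, 1, 4, 0, 1, 3, 1, 2, 0], [1, 3, 4, 0, 1, 3, 1, 2, 0], [1, 3, 4, 2, 1, 3, 1, 2, 0], [1, 3, 2, 4, 1, 3, 1, 2, 0], [1, 3, 0, 1, 4, 3, 1, 2, 0], [1, 4, 3, 4, 2, 1, 3, 2, 0], [4, 1, 3, 2, 4, 1, 3, 2, 0], [3, 1, 4, 3, 4, 2, 1, 3, 0], [3, 4, 1, 3, 2, 4, 1, 3, 0], [4, 3, 4, 1, 3, 0, 1, 2, 1, 0], [1, 3, 4, 2, 1, 3, 1, 2, 1, 0], [1, 3, 2, 4, 1, 3, 1, 2, 1, 0], [1, 4, 3, 4, 2, 1, 3, 2, 1, 0], [4, 1, 3, 2,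 4, 1, 3, 2, 1, 0], [3, 1, 4, 3, 4, 2, 1, 3, 2, 0], [3, 4, 1, 3, 2, 4, 1, 3, 2, 0], [4, 3, 4, 1, 3, 2, 4, 1, 3, 0], [3, 4, 1, 3, 2, 4, 1, 3, 2, 1, 0]]

end CfsgLib.Coset.Sp44
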