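import Cfsg.Agent.Coset.Prim

set_option autoImplicit false
set_option maxRecDepth 100000
set_option linter.unusedVariables false

namespace CfsgLib.Coset.Sp44.T2

noncomputable def ELeaf (i : Nat) : Nat := (0x3000000000000030000000000000300000000000003000000000000030000000000000300000000000003000000000000030000000000000300000000000003000000000000030000000000000300000000000003000000000000030000000000000300000000000003000000000000030000000000000300000000000003000000000000030000000000000300000000000003000000000000030000000000000300000000000003000000000000030000000000000300000000000003000000000000030000000000000300000000000003000000000000030000000000000300000000000003000000000000030000000000000300000000000003000000000000030000000000000300000000000003000000000000030000000000000300000000000003000000000000030000000000000300000000000003000000000000030000000000000300000000000003000000000000030000000000000300000000000003000000000000030000000000000300000000000003000000000000030000000000000300000000000001000005000005020000050000040200000300000302000002000002000000010000010100000000000000000000000000000000050000040100000400000300000003000002010000020000010200000100000003000000000000 : Nat)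
noncomputable def E (i : Nat) : Nat := Nat.shiftRight (ELeaf (Nat.shiftRight i 8)) (Nat.mul 56 (Nat.land i 255))

noncomputable def C (i : Nat) : Nat := (0x500000000000500000000000500000000000500000000000500000000000500000000000500000000000500000000000500000000000500000000000500000000000500000000000500000000000500000000000500000000000500000000000500000000000500000000000500000000000500000000000500000000000500000000000500000000000500000000000500000000000500000000000500000000000500000000000500000000000500000000000500000000000500000000000500000000000500000000000500000000000500000000000500000000000500000000000500000000000500000000000500000000000500000000000500000000000500000000000500000000000500000000000500000000000500000000000500000000000500000000000500000000000500000000000500000000000500000000000500000000000500000000000500001600000800000600000400001100000200000f00000d00000f00000300000500000700000900000b00000e00000200000800000600000400000200000f00000d00000f00000d00000f00000300000500000700000900000b00000e00000100000600001200000700000300000300000400000200000e00000300000500000500000000000200000c000003000003000004000000000007000000000006 : Nat)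

noncomputable def TbLeaf (i : Nat) : Nat := (0x4000005000004000005000003000005000003000004000002000002000001000003000000000002000001000001000000000000 : Nat)
noncomputable def Tb (i : Nat) : Nat := Nat.shiftRight (TbLeaf (Nat.shiftRight i 7)) (Nat.mul 72 (Nat.land i 127))

noncomputable def RefLeaf (i : Nat) : Nat := (0x1700001900000b00001600000900000a00001500000800000700001300000500000600000300000400001100000200000f00000d : Nat)
noncomputable def Ref (i : Nat) : Nat := Nat.shiftRight (RefLeaf (Nat.shiftRight i 7)) (Nat.mul 72 (Nat.land i 127))

noncomputable def Rep0Leaf (i : Nat) : Nat := (0x5000004000003000002000001000000 : Nat)
noncomputable def Rep0 (i : Nat) : Nat := Nat.shiftRight (Rep0Leaf (Nat.shiftRight i 8)) (Nat.mul 24 (Nat.land i 255))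

noncomputable def Rep (i : Nat) : Nat := Nat.land (Rep0 i) 16777215

noncomputable def ParLeaf (i : Nat) : Nat := (0x4000001000003000000000002000001000001000002000000000000000000 : Nat)
noncomputable def Par (i : Nat) : Nat := Nat.shiftRight (ParLeaf (Nat.shiftRight i 8)) (Nat.mul 48 (Nat.land i 255))

def R : CfsgLib.Coset.Tr (List Nat × Nat) := .node (.node (.node (.leaf ([1, 2, 1, 2, 1, 2], 1540)) (.leaf ([2, 0, 2, 0], 3078))) (.node (.leaf ([0, 1, 0, 1, 2, 1, 0, 1, 2, 0, 1, 0, 1, 2, 1], 2060)) (.leaf ([255, 0], 3)))) (.node (.node (.leaf ([0, 1, 0, 1, 2, 1, 0, 1, 0, 1, 2, 1, 0, 1, 2], 2048)) (.leaf ([], 3584))) (.node (.leaf ([0, 2, 0, 2], 3076)) (.leaf ([255, 1], 515))))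

def subs : List (List Nat) := [[0], [1]]

end CfsgLib.Coset.Sp44.T2
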