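import Cfsg.Agent.Coset.Presented
import Cfsg.Agent.Coset.Chain
import Cfsg.Agent.Coset.Sp44.Data
import Cfsg.Agent.Coset.Sp44.T1
import Cfsg.Agent.Coset.Sp44.T2
import Cfsg.Agent.Coset.Sp44.T3
import Cfsg.Agent.Coset.Sp44.T4

/-! A group on five involutions with the listed relators has at most `979200` elements. -/

set_option autoImplicit false
set_option maxRecDepth 100000
set_option Elab.async false

namespace CfsgLib.Coset.Sp44

/-- The presented group. -/
abbrev P : Type := NumGr 5 rels

/-- The generators. -/
noncomputable abbrev Lp : List P := numGens 5 rels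

theorem len_Lp : (Lp).length = 5 := length_numGens

theorem sq_all (x : Nat) : fl Lp x * fl Lp x = 1 := sq_numGens (by decide +kernel) x

theorem level {S S' : List Nat} {rs subs : List (List Nat)} {E Rep Tb : Nat → Nat}
    {R : Tr (List Nat × Nat)} {d d' N nC dn dk n : Nat} {C Ref : Nat → Nat} (k : Nat)
    (hk : S.length = k)
    (hc : checkLevel rels 5 S S' rs subs = true)
    (hR : checkRules rs subs R = true) (hd : checkDefs E k d' N = true)
    (hs : checkChunks E id R k d N nC C = true)
    (ht : checkTable E id (N + chunk * nC) n k dn dk Rep Ref Tb = true) :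
    TableOK (lv Lp S) (genBy Lp S') E id n Rep Tb := by
  have hl : (lv Lp S).length = k := by simp [lv, hk]
  exact tableOK_of_check (inv_lv sq_all S) hR (hl.symm ▸ hd) (hl.symm ▸ hs) (hl.symm ▸ ht)
    (level_rels len_Lp hc ev_numGens) (level_subs len_Lp hc)

theorem card_le : Finite P ∧ Nat.card P ≤ 979200 := by
  have c4 : checkLevel rels 5 [0, 1, 2, 3, 4] [0, 1, 2, 3] T4.lrels T4.subs = true := by
    decide +kernel
  have c3 : checkLevel rels 5 [0, 1, 2, 3] [0, 1, 2] T3.lrels T3.subs = true := by decide +kernel
  have c2 : checkLevel rels 5 [0, 1, 2] [0, 1] T2.lrels T2.subs = true := by decide +kernel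
  have c1 : checkLevel rels 5 [0, 1] [] T1.lrels T1.subs = true := by decide +kernel
  have h := level_card (level 5 rfl c4 T4.hR T4.hdefs T4.hsteps T4.htable) (by decide) c4
    (level_card (level 4 rfl c3 T3.hR T3.hdefs T3.hsteps T3.htable) (by decide) c3
      (level_card (level 3 rfl c2 T2.hR T2.hdefs T2.hsteps T2.htable) (by decide) c2
        (level_card (level 2 rfl c1 T1.hR T1.hdefs T1.hsteps T1.htable) (by decide) c1
          card_genBy_nil)))
  have ht : genBy Lp [0, 1, 2, 3, 4] = ⊤ := by
    have := genBy_range (L := Lp) closure_numGens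
    rwa [len_Lp] at this
  rw [ht, Subgroup.card_top] at h
  obtain ⟨hf, hc⟩ := h
  exact ⟨Finite.of_equiv _ Subgroup.topEquiv.toEquiv, hc.trans (by norm_num)⟩

end CfsgLib.Coset.Sp44
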