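import Cfsg.Agent.Coset.He.Order
import Cfsg.Agent.Coset.Sp44.Pres
import Cfsg.Agent.Coset.Sp44.OrbData

/-! The presented group as a subgroup of `Cfsg.Spor.He`. -/

set_option autoImplicit false
set_option maxRecDepth 100000
set_option Elab.async false

namespace CfsgLib.Coset.Sp44

/-- The images of the generators. -/
noncomputable def Lw : List Cfsg.Spor.He := W.map (ev He.Lg)

theorem len_Lw : (Lw).length = 5 := by simp [Lw, W]

/-- A word in the generators as a word in `Cfsg.Spor.He`. -/
def expand (w : List Nat) : List Nat := w.flatMap fun l => W.getD l []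

theorem ev_expand {w : List Nat} (hw : ∀ l ∈ w, l < 5) : ev Lw w = ev He.Lg (expand w) := by
  induction w with
  | nil => simp [expand]
  | cons a w ih =>
    have ha : a < W.length := by simpa [W] using hw a (by simp)
    have hfl : fl Lw a = ev He.Lg (W.getD a []) := by
      simp [fl, Lw, List.getD_eq_getElem?_getD, List.getElem?_eq_getElem ha]
    rw [ev_cons, hfl, ih fun l hl => hw l (by simp [hl]), ← ev_append]
    rfl

theorem expand_mem {g : List Nat} (hg : ∀ l ∈ g, l < 5) :
    ev He.Lg (expand g) ∈ Subgroup.closure {x | x ∈ Lw} := by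
  rw [← ev_expand hg]
  clear hg
  induction g with
  | nil => simp
  | cons a g ih => rw [ev_cons]; exact mul_mem (mem_closure_fl a) ih

/-- A base of the action of `Cfsg.Spor.He`. -/
def base : List (Fin 2058) := [0, 1, 15, 34]

theorem base_bot : baseStab He.ρ base = ⊥ := by
  have := He.card_le.1
  refine baseStab_eq_bot (N := 4030387200) (by decide) He.card_le.2 base ?_
  have h4 : Nat.card (baseStab He.ρ base) ≤
      Nat.card (baseStab He.ρ [(0 : Fin 2058), 1, 15, 34]) := le_rfl
  have h3 := orbit_step He.matches_ρ (base := [(0 : Fin 2058), 1, 15]) (β := 34) (m := 4) (dm := 2)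
    (gens := He.Orb.B3G) (P := He.Orb.B3P) (Inv := He.Orb.B3Inv)
    (by decide +kernel) (by decide +kernel) (by decide +kernel) h4
  have h2 := orbit_step He.matches_ρ (base := [(0 : Fin 2058), 1]) (β := 15) (m := 360) (dm := 9)
    (gens := He.Orb.B2G) (P := He.Orb.B2P) (Inv := He.Orb.B2Inv)
    (by decide +kernel) (by decide +kernel) (by decide +kernel) h3
  have h1 := orbit_step He.matches_ρ (base := [(0 : Fin 2058)]) (β := 1) (m := 1360) (dm := 11)
    (gens := He.Orb.B1G) (P := He.Orb.B1P) (Inv := He.Orb.B1Inv)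
    (by decide +kernel) (by decide +kernel) (by decide +kernel) h2
  have h0 := orbit_step He.matches_ρ (base := []) (β := 0) (m := 2058) (dm := 12)
    (gens := He.Orb.B0G) (P := He.Orb.B0P) (Inv := He.Orb.B0Inv)
    (by decide +kernel) (by decide +kernel) (by decide +kernel) h1
  simpa [baseStab, ← mul_assoc] using h0

theorem he_rels_check : rels.all (fun w =>
    allList (fun b => Nat.beq (follow (tget He.Top.Tb) b (expand w)) (follow (tget He.Top.Tb) b []))
      (base.map Fin.val) && checkLetters 7 [expand w] && checkLetters 5 [w]) = true := by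
  decide +kernel

theorem he_img_rels : ∀ w ∈ rels, ev Lw w = 1 := by
  intro w hw
  have h := List.all_eq_true.mp he_rels_check w hw
  simp only [Bool.and_eq_true] at h
  rw [ev_expand (letters_lt h.2 w (by simp))]
  exact He.matches_ρ.ev_eq_of_base base_bot (v := expand w) (w := [])
    (He.len_Lg.symm ▸ h.1.2) rfl h.1.1

/-- The subgroup. -/
noncomputable abbrev N : Subgroup Cfsg.Spor.He := Subgroup.closure {x | x ∈ Lw}

theorem gens_mem {gs : List (List Nat)} (h : checkLetters 5 gs = true) :
    ∀ w ∈ gs.map expand, ev He.Lg w ∈ N := by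
  intro w hw
  obtain ⟨g, hg, rfl⟩ := List.mem_map.mp hw
  exact expand_mem (letters_lt h g hg)

theorem card_ge : 979200 ≤ Nat.card N := by
  have := He.card_le.1
  have h3 : 1 ≤ Nat.card (N ⊓ baseStab He.ρ [(1 : Fin 2058), 15, 18] : Subgroup Cfsg.Spor.He) :=
    Nat.card_pos
  have h2 := orbit_step_in He.matches_ρ N (base := [(1 : Fin 2058), 15]) (β := 18) (m := 2) (dm := 1)
    (gens := Orb.N2G.map expand) (P := Orb.N2P) (Inv := Orb.N2Inv)
    (by decide +kernel) (by decide +kernel) (by decide +kernel) (gens_mem (by decide +kernel)) h3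
  have h1 := orbit_step_in He.matches_ρ N (base := [(1 : Fin 2058)]) (β := 15) (m := 360) (dm := 9)
    (gens := Orb.N1G.map expand) (P := Orb.N1P) (Inv := Orb.N1Inv)
    (by decide +kernel) (by decide +kernel) (by decide +kernel) (gens_mem (by decide +kernel)) h2
  have h0 := orbit_step_in He.matches_ρ N (base := []) (β := 1) (m := 1360) (dm := 11)
    (gens := Orb.N0G.map expand) (P := Orb.N0P) (Inv := Orb.N0Inv)
    (by decide +kernel) (by decide +kernel) (by decide +kernel) (gens_mem (by decide +kernel)) h1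
  simpa [baseStab] using h0

theorem nonempty_equiv_N : Nonempty (P ≃* N) := by
  have := He.card_le.1
  have := card_le.1
  exact ⟨numEquiv len_Lw he_img_rels (card_le.2.trans card_ge)⟩

theorem card_N : Nat.card N = 979200 := by
  obtain ⟨e⟩ := nonempty_equiv_N
  exact le_antisymm (Nat.card_congr e.toEquiv ▸ card_le.2) card_ge

theorem N_le : N ≤ He.H := by
  rw [N, Subgroup.closure_le]
  intro x hx
  obtain ⟨w, hw, rfl⟩ := List.mem_map.mp hx
  have h : ∀ v ∈ He.Top.subs, ev He.Lg v ∈ He.H := fun v hv => ev_mem_genW hv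
  fin_cases hw
  · exact h _ (by decide)
  · exact h _ (by decide)
  · exact h _ (by decide)
  · exact h _ (by decide)
  · rw [show ([1, 2, 3, 4, 1, 2, 3, 4, 1, 2, 3, 4, 1, 2, 3, 4, 1, 2, 3, 4, 1, 2, 3, 4, 1, 2, 3, 4,
      0, 1, 2, 3, 4, 1, 2, 3, 4, 1, 2, 3, 4, 1, 2, 3, 4, 1, 2, 3, 4, 1, 2, 3, 4, 1, 2, 3, 4,
      1, 2, 3, 4, 1, 2, 3, 4, 1, 2, 3, 4, 1, 2, 3, 4, 1, 2, 3, 4, 1, 2, 3, 4, 1, 2, 3, 4] : List Nat) =
      (He.Top.subs.getD 6 [] ++ [0]) ++ He.Top.subs.getD 6 [] ++ He.Top.subs.getD 6 [] by decide,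
      ev_append, ev_append, ev_append]
    exact mul_mem (mul_mem (mul_mem (h _ (by decide)) (h _ (by decide))) (h _ (by decide)))
      (h _ (by decide))

theorem index_two : (N.subgroupOf He.H).index = 2 := by
  have := He.card_le.1
  have h := Subgroup.card_mul_index He.H
  rw [He.index_and_eq.1, He.card_and_injective.1] at h
  have h2 := Subgroup.card_mul_index (N.subgroupOf He.H)
  rw [Nat.card_congr (Subgroup.subgroupOfEquivOfLe N_le).toEquiv, card_N] at h2
  omega

end CfsgLib.Coset.Sp44
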