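import Cfsg.Agent.Coset.Sp44.Pres
import Cfsg.Agent.Coset.G24.MatAction
import Cfsg.Agent.Classical.SymplecticBasic
import Cfsg.Agent.Classical.SymplecticBlocks
import Mathlib.Tactic.IntervalCases

/-! The presented group is `Sp(4, 4)`. -/

set_option autoImplicit false
set_option maxRecDepth 100000
set_option Elab.async false

namespace CfsgLib.Coset.Sp44

open CfsgLib.Coset.G24 (F4 toVec rowsOf runW beqL checkCols)
open Matrix

/-- The symplectic group. -/
abbrev S : Type := Matrix.symplecticGroup (Fin 2) F4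

/-- The coordinate numbering. -/
abbrev e : Fin 2 ⊕ Fin 2 ≃ Fin 4 := finSumFinEquiv

/-- The matrix with the listed rows. -/
def ofRows (rows : List (List F4)) : Matrix (Fin 2 ⊕ Fin 2) (Fin 2 ⊕ Fin 2) F4 :=
  Matrix.of fun i j => (rows.getD (e i) []).getD (e j) 0

theorem mats_symp : ∀ l < 5, ofRows (mats.getD l []) * Matrix.J (Fin 2) F4 * (ofRows (mats.getD l []))ᵀ =
      Matrix.J (Fin 2) F4 := by
  intro l hl
  interval_cases l <;> decide +kernel

theorem mem_symp (l : Fin 5) : ofRows (mats.getD l.val []) ∈ Matrix.symplecticGroup (Fin 2) F4 := by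
  rw [SymplecticGroup.mem_iff]
  exact mats_symp l.val l.isLt

/-- A generator. -/
noncomputable def gen (l : Fin 5) : S :=
  Subtype.mk (ofRows (mats.getD l.val [])) (mem_symp l)

/-- The images of the generators. -/
noncomputable def Ls : List S := [gen 0, gen 1, gen 2, gen 3, gen 4]

theorem len_Ls : (Ls).length = 5 := by simp [Ls]

/-- The symplectic group inside the general linear group. -/
def incl : S →* GL (Fin 2 ⊕ Fin 2) F4 := (Submonoid.subtype _).toHomUnits

theorem rows_Ls (l : Nat) (hl : l < (Ls.map incl).length) :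
    mats.getD l [] = rowsOf e (fl (Ls.map incl) l : GL (Fin 2 ⊕ Fin 2) F4).val := by
  have h5 : l < 5 := by simpa [len_Ls] using hl
  have hv : (fl (Ls.map incl) l : GL (Fin 2 ⊕ Fin 2) F4).val = ofRows (mats.getD l []) := by
    interval_cases l <;> rfl
  have hr : ∀ l < 5, mats.getD l [] = rowsOf e (ofRows (mats.getD l [])) := by
    intro l hl; interval_cases l <;> decide +kernel
  rw [hv]; exact hr l h5

theorem ev_incl (w : List Nat) : ev (Ls.map incl) w = incl (ev Ls w) := by
  induction w with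
  | nil => simp
  | cons a w ih =>
    rw [ev_cons, ev_cons, map_mul, ih]
    congr 1
    simp only [fl]
    rw [← map_one incl, List.getD_map]

theorem ev_eq_of_cols {w : List Nat} (hl : ∀ l ∈ w, l < 5) (g : S)
    (h : checkCols mats w 4 (rowsOf e (g : Matrix (Fin 2 ⊕ Fin 2) (Fin 2 ⊕ Fin 2) F4)) = true) :
    ev Ls w = g := by
  apply Subtype.ext
  have := CfsgLib.Coset.G24.ev_eq_of_checkCols e rows_Ls
    (fun a ha => by rw [List.length_map, len_Ls]; exact hl a ha) _ h
  rw [ev_incl] at this
  exact this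

theorem rels_check : rels.all (fun w => checkCols mats w 4
    (rowsOf e (1 : Matrix (Fin 2 ⊕ Fin 2) (Fin 2 ⊕ Fin 2) F4)) && checkLetters 5 [w]) = true := by
  decide +kernel

theorem img_rels : ∀ w ∈ rels, ev Ls w = 1 := by
  intro w hw
  have h := List.all_eq_true.mp rels_check w hw
  rw [Bool.and_eq_true] at h
  exact ev_eq_of_cols (letters_lt h.2 w (by simp)) 1 h.1

/-- The map to the symplectic group. -/
noncomputable def φ : P →* S := numHom len_Ls img_rels

/-- The first basis vector. -/
def e0 : Fin 2 ⊕ Fin 2 → F4 := Pi.single (Sum.inl 0) 1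

theorem mem_range (w : List Nat) : ev Ls w ∈ φ.range := ⟨ev Lp w, numHom_ev _ _ w⟩

theorem tv_e0 (c : F4) : CfsgLib.Symp.tv e0 c ∈ φ.range := by
  have key : ∀ i < 2, ev Ls (tw.getD i []) = CfsgLib.Symp.tv e0 (if i = 0 then F4.o else F4.w) := by
    intro i hi
    have hlet : checkLetters 5 [tw.getD i []] = true := by interval_cases i <;> decide +kernel
    refine ev_eq_of_cols (letters_lt hlet _ (by simp)) _ ?_
    interval_cases i <;> decide +kernel
  have ho : CfsgLib.Symp.tv e0 F4.o ∈ φ.range := by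
    have h := mem_range (tw.getD 0 [])
    rwa [key 0 (by norm_num), if_pos rfl] at h
  have hw : CfsgLib.Symp.tv e0 F4.w ∈ φ.range := by
    have h := mem_range (tw.getD 1 [])
    rwa [key 1 (by norm_num), if_neg (by norm_num)] at h
  cases c with
  | z =>
    have : CfsgLib.Symp.tv e0 (F4.z : F4) = 1 := CfsgLib.Symp.tv_zero _
    rw [this]; exact one_mem _
  | o => exact ho
  | w => exact hw
  | v =>
    have : CfsgLib.Symp.tv e0 (F4.v : F4) = CfsgLib.Symp.tv e0 F4.o * CfsgLib.Symp.tv e0 F4.w := by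
      rw [CfsgLib.Symp.tv_add]; rfl
    rw [this]; exact mul_mem ho hw

/-- Every vector as a list. -/
def allVec : List (List F4) :=
  [F4.z, F4.o, F4.w, F4.v].flatMap fun a => [F4.z, F4.o, F4.w, F4.v].flatMap fun b =>
    [F4.z, F4.o, F4.w, F4.v].flatMap fun c => [F4.z, F4.o, F4.w, F4.v].map fun d => [a, b, c, d]

theorem vw_check : allVec.all (fun t => t == [F4.z, F4.z, F4.z, F4.z] ||
    vw.any fun w => checkLetters 5 [w] && runW mats w (toVec e e0) fun r => beqL r t) = true := by
  decide +kernel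

theorem mem_allVec (v : Fin 2 ⊕ Fin 2 → F4) : toVec e v ∈ allVec := by
  have h : ∀ a b c d : F4, [a, b, c, d] ∈ allVec := by decide +kernel
  have : toVec e v = [v (e.symm 0), v (e.symm 1), v (e.symm 2), v (e.symm 3)] := by
    simp [toVec, List.ofFn_succ]
  rw [this]; exact h _ _ _ _

theorem tv_any (v : Fin 2 ⊕ Fin 2 → F4) (c : F4) : CfsgLib.Symp.tv v c ∈ φ.range := by
  by_cases hv : toVec e v = [F4.z, F4.z, F4.z, F4.z]
  · have h0 : toVec e (0 : Fin 2 ⊕ Fin 2 → F4) = [F4.z, F4.z, F4.z, F4.z] := by decide +kernel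
    have hv0 : v = 0 := CfsgLib.Coset.G24.toVec_injective e (hv.trans h0.symm)
    subst hv0
    have : CfsgLib.Symp.tv (0 : Fin 2 ⊕ Fin 2 → F4) c = 1 :=
      CfsgLib.Symp.symp_ext fun x => by rw [CfsgLib.Symp.tv_smul, smul_zero, add_zero, one_smul]
    rw [this]; exact one_mem _
  · have h := List.all_eq_true.mp vw_check _ (mem_allVec v)
    rw [Bool.or_eq_true] at h
    rcases h with h | h
    · exact absurd (eq_of_beq h) hv
    · obtain ⟨w, -, hw⟩ := List.any_eq_true.mp h
      rw [Bool.and_eq_true] at hw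
      obtain ⟨hl, hr⟩ := hw
      have hl' : ∀ l ∈ w, l < (Ls.map incl).length := fun l hlm => by
        rw [List.length_map, len_Ls]; exact letters_lt hl w (by simp) l hlm
      rw [CfsgLib.Coset.G24.runW_eq e rows_Ls w hl', ev_incl] at hr
      have hsm : (ev Ls w) • e0 = v :=
        CfsgLib.Coset.G24.toVec_injective e (CfsgLib.Coset.G24.eq_of_beqL hr)
      rw [← hsm, ← CfsgLib.Symp.tv_conj]
      exact mul_mem (mul_mem (mem_range w) (tv_e0 c)) (inv_mem (mem_range w))

theorem surjective_φ : Function.Surjective φ := by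
  rw [← MonoidHom.range_eq_top, eq_top_iff, ← CfsgLib.Symp.tvGroup_eq_top,
    CfsgLib.Symp.tvGroup, Subgroup.closure_le]
  rintro g ⟨v, -, c, rfl⟩
  exact tv_any v c

theorem card_S : Nat.card S = 979200 := by
  rw [CfsgLib.Symp.card_Sp, Nat.card_eq_fintype_card, F4.card_eq]
  decide +kernel

theorem nonempty_equiv : Nonempty (P ≃* S) := by
  have := card_le.1
  exact ⟨MulEquiv.ofBijective φ
    (surjective_φ.bijective_of_nat_card_le (card_le.2.trans card_S.ge))⟩

end CfsgLib.Coset.Sp44
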